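import Mathlib

set_option autoImplicit false

/-!
# S2510: definitions for the architected proof

`Good r x`: `x` commutes with an element of order `r`.
`cS q n`: the order of the image of a Singer cycle of `SL_n(q)` in `PSL_n(q)`.
-/

namespace Cfsg.Agent.Helper86.Spec4

/-- `x` commutes with some element of order `r`. -/
def Good {G : Type*} [Group G] (r : ℕ) (x : G) : Prop :=
  ∃ d : G, Commute x d ∧ orderOf d = r

/-- The order `(q^n - 1) / ((q - 1) gcd(n, q - 1))` of a Singer cycle of `PSL_n(q)`. -/
def cS (q n : ℕ) : ℕ := (q ^ n - 1) / ((q - 1) * Nat.gcd n (q - 1))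

end Cfsg.Agent.Helper86.Spec4
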