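import Mathlib
import Cfsg.Prelude.Def_Classical
import Cfsg.Agent.Helper86.Spec4.Defs

set_option autoImplicit false

/-!
# S2511: definitions for the architected proof (unitary analogue of S2510)

`dag bar A`: the conjugate transpose `(A.map bar)ᵀ` for a ring endomorphism `bar` of `F` (the `q`-power map).
`pstar bar f`: the conjugate reciprocal polynomial `(f.map bar).reverse`.
`NU q n = q^n - (-1)^n`, `cU q n = NU q n / ((q+1) gcd(n, q+1))`: the order of the image in `PSU_n(q)` of the
cyclic maximal torus of order `NU q n / (q+1)` of `SU_n(q)`.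
-/

namespace Cfsg.Agent.Helper86.Spec4

open Matrix Polynomial

variable {F : Type*} [Field F]

/-- conjugate transpose -/
def dag {n : ℕ} (bar : F →+* F) (A : Matrix (Fin n) (Fin n) F) : Matrix (Fin n) (Fin n) F :=
  (A.map bar)ᵀ

/-- `q^n - (-1)^n` -/
def NU (q n : ℕ) : ℕ := if Even n then q ^ n - 1 else q ^ n + 1

/-- the order of the image of the Coxeter torus of `SU_n(q)` in `PSU_n(q)` -/
def cU (q n : ℕ) : ℕ := NU q n / ((q + 1) * Nat.gcd n (q + 1))

/-- the conjugate reciprocal polynomial -/
noncomputable def pstar (bar : F →+* F) (f : F[X]) : F[X] := (f.map bar).reverse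

variable {n : ℕ} (bar : F →+* F)

theorem dag_apply (A : Matrix (Fin n) (Fin n) F) (i j : Fin n) : dag bar A i j = bar (A j i) := rfl

theorem dag_mul (A B : Matrix (Fin n) (Fin n) F) : dag bar (A * B) = dag bar B * dag bar A := by
  unfold dag
  rw [Matrix.map_mul, Matrix.transpose_mul]

theorem dag_add (A B : Matrix (Fin n) (Fin n) F) : dag bar (A + B) = dag bar A + dag bar B := by
  ext i j
  simp [dag_apply]

theorem dag_sub (A B : Matrix (Fin n) (Fin n) F) : dag bar (A - B) = dag bar A - dag bar B := by
  ext i j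
  simp [dag_apply]

theorem dag_neg (A : Matrix (Fin n) (Fin n) F) : dag bar (-A) = -dag bar A := by
  ext i j
  simp [dag_apply]

theorem dag_zero : dag bar (0 : Matrix (Fin n) (Fin n) F) = 0 := by
  ext i j
  simp [dag_apply]

theorem dag_one : dag bar (1 : Matrix (Fin n) (Fin n) F) = 1 := by
  ext i j
  simp only [dag_apply, Matrix.one_apply]
  by_cases h : i = j
  · subst h; simp
  · rw [if_neg h, if_neg (Ne.symm h), map_zero]

theorem dag_smul (c : F) (A : Matrix (Fin n) (Fin n) F) : dag bar (c • A) = bar c • dag bar A := by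
  ext i j
  simp [dag_apply]

theorem dag_pow (A : Matrix (Fin n) (Fin n) F) (k : ℕ) : dag bar (A ^ k) = dag bar A ^ k := by
  induction k with
  | zero => simp [dag_one]
  | succ k ih => rw [pow_succ, dag_mul, ih, pow_succ']

theorem dag_dag (hbar2 : ∀ x, bar (bar x) = x) (A : Matrix (Fin n) (Fin n) F) :
    dag bar (dag bar A) = A := by
  ext i j
  simp [dag_apply, hbar2]

theorem dag_injective (hbar2 : ∀ x, bar (bar x) = x) :
    Function.Injective (dag bar : Matrix (Fin n) (Fin n) F → Matrix (Fin n) (Fin n) F) := by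
  intro A B h
  rw [← dag_dag bar hbar2 A, h, dag_dag bar hbar2]

theorem dag_aeval (A : Matrix (Fin n) (Fin n) F) (g : F[X]) :
    dag bar (aeval A g) = aeval (dag bar A) (g.map bar) := by
  induction g using Polynomial.induction_on' with
  | add f g hf hg => rw [map_add, dag_add, hf, hg, Polynomial.map_add, map_add]
  | monomial k c =>
    rw [Polynomial.map_monomial, Polynomial.aeval_monomial, Polynomial.aeval_monomial,
      Algebra.algebraMap_eq_smul_one, Algebra.algebraMap_eq_smul_one, smul_mul_assoc, one_mul,
      smul_mul_assoc, one_mul, dag_smul, dag_pow]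

/-- membership in `SU_n(q)` in terms of `dag` -/
theorem dag_mul_self_of_mem {q : ℕ} (hbar : ∀ x, bar x = x ^ q)
    (g : Matrix.SpecialLinearGroup (Fin n) F) (hg : g ∈ Cfsg.SU n F q) : dag bar g.1 * g.1 = 1 := by
  have hq : q ≠ 0 := by
    rintro rfl
    have := hbar 0
    simp at this
  have h : ∀ u v : Fin n → F, Cfsg.hermForm n F q (g.1 *ᵥ u) (g.1 *ᵥ v) = Cfsg.hermForm n F q u v :=
    fun u v => hg u v
  have hstd : ∀ i j : Fin n, Cfsg.hermForm n F q (Pi.single j 1) (Pi.single i 1) =
      if i = j then 1 else 0 := by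
    intro i j
    unfold Cfsg.hermForm
    rw [Finset.sum_eq_single j]
    · by_cases hij : i = j
      · subst hij; simp
      · rw [if_neg hij, Pi.single_apply, Pi.single_apply, if_pos rfl, if_neg (Ne.symm hij),
          zero_pow hq, mul_zero]
    · intro x _ hx
      rw [Pi.single_apply, if_neg hx, zero_mul]
    · intro hj
      exact absurd (Finset.mem_univ j) hj
  ext i j
  have hij := h (Pi.single j 1) (Pi.single i 1)
  rw [hstd] at hij
  simp only [Cfsg.hermForm, Matrix.mulVec_single_one, Matrix.col_apply] at hij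
  rw [Matrix.mul_apply, Matrix.one_apply, ← hij]
  apply Finset.sum_congr rfl
  intro x _
  rw [dag_apply, hbar, mul_comm]

end Cfsg.Agent.Helper86.Spec4
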