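import Mathlib
import Cfsg.Agent.Helper86.Spec4.Defs
import Cfsg.Agent.Helper22.Spec4A3
import Cfsg.Agent.Helper22.Spec4A4
import Cfsg.Agent.Helper23.Spec4C1
import Cfsg.Agent.Helper23.Spec4M7
import Cfsg.Agent.Helper33.Spec4M5
import Cfsg.Agent.Helper48.Spec4M2
import Cfsg.Agent.Helper48.Spec4M6
import Cfsg.Agent.Helper55.Spec4A1
import Cfsg.Agent.Helper81.Spec4M8
import Cfsg.Agent.Helper67.Spec4M1
import Cfsg.Agent.Helper53.Spec4M3
import Cfsg.Agent.Helper53.Spec4M4
import Cfsg.Agent.Helper20.Spec4B1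
import Cfsg.Agent.Helper20.Spec4C0
import Cfsg.Agent.Helper33.Spec4A2

set_option autoImplicit false

/-!
# S2510: assembly

`PSL_n(q)^3 × (ℤ/r)^m` has the spectrum of `PSL_n(q)^3` for a prime `r ∣ q - 1`, `r ∤ n`, and two factors
suffice when `n - 1` is not a power of `p`.  Architecture (helper86): an element of `SL_n(q)` commuting with
a nontrivial idempotent commutes with a non-central element of order `r`; otherwise its `p'`-part has
irreducible minimal polynomial and lies in a Singer torus.  Pieces by helper20, helper22, helper23,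
helper33, helper48, helper53, helper55, helper67, helper81.
-/

namespace Cfsg.Agent.Helper86.Spec4Main

open Matrix Cfsg.Agent.Helper86.Spec4

variable {F : Type*} [Field F] [Fintype F]

theorem hBAD_of {p n r : ℕ} [Fact p.Prime] [CharP F p] (hn : 2 ≤ n) (hr : r.Prime)
    (hrq : r ∣ Fintype.card F - 1) (hrn : ¬ r ∣ n)
    (w : ProjectiveSpecialLinearGroup (Fin n) F) :
    Good r w ∨ ∃ t k, orderOf w = p ^ t * k ∧ k ∣ cS (Fintype.card F) n := by
  obtain ⟨x, rfl⟩ := QuotientGroup.mk_surjective w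
  by_cases hind : ∀ e : Matrix (Fin n) (Fin n) F, e * e = e → e * x.1 = x.1 * e → e = 0 ∨ e = 1
  · right
    refine Cfsg.Agent.Helper20.Spec4.bad_dvd (p := p) (by omega) x hind ?_ ?_
    · intro s j m hs hm hsm
      exact Cfsg.Agent.Helper48.Spec4.minpoly_irreducible_of_indec (by omega) x.1 s j m hs hm hsm hind
    · intro s hdet hirr
      exact Cfsg.Agent.Helper53.Spec4.pow_cS_scalar (by omega) s hirr
        (Cfsg.Agent.Helper53.Spec4.pow_eq_one_of_irreducible s hdet hirr)
  · left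
    push_neg at hind
    obtain ⟨e, he, hc, he0, he1⟩ := hind
    exact Cfsg.Agent.Helper67.Spec4.good_of_idempotent hr hrq hrn x e he he0 he1 hc

theorem main (p a n r m : ℕ) (hp : p.Prime) (ha : 1 ≤ a) (hF : Fintype.card F = p ^ a)
    (hn : 2 ≤ n) (hr : r.Prime) (hrq : r ∣ Fintype.card F - 1) (hrn : ¬ r ∣ n) :
    Set.range (orderOf : Matrix.ProjectiveSpecialLinearGroup (Fin n) F × Matrix.ProjectiveSpecialLinearGroup (Fin n) F × Matrix.ProjectiveSpecialLinearGroup (Fin n) F × Multiplicative (Fin m → ZMod r) → ℕ) =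
      Set.range (orderOf : Matrix.ProjectiveSpecialLinearGroup (Fin n) F × Matrix.ProjectiveSpecialLinearGroup (Fin n) F × Matrix.ProjectiveSpecialLinearGroup (Fin n) F → ℕ) ∧
    ((¬ ∃ j : ℕ, n - 1 = p ^ j) →
      Set.range (orderOf : Matrix.ProjectiveSpecialLinearGroup (Fin n) F × Matrix.ProjectiveSpecialLinearGroup (Fin n) F × Multiplicative (Fin m → ZMod r) → ℕ) =
        Set.range (orderOf : Matrix.ProjectiveSpecialLinearGroup (Fin n) F × Matrix.ProjectiveSpecialLinearGroup (Fin n) F → ℕ)) := by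
  haveI : Fact p.Prime := ⟨hp⟩
  haveI : CharP F p := Cfsg.Agent.Helper20.Spec4.charP_of_card hp ha hF
  have hpr : p ≠ r := by
    rintro rfl
    rw [hF] at hrq
    have h1 : p ∣ p ^ a := dvd_pow_self p (by omega)
    have h2 : 1 ≤ p ^ a := Nat.one_le_pow _ _ hp.pos
    have h3 : p ∣ 1 := by
      have := (Nat.dvd_sub (m := p ^ a) (n := p ^ a - 1) h1 hrq)
      rwa [show p ^ a - (p ^ a - 1) = 1 by omega] at this
    exact hp.one_lt.ne' (Nat.dvd_one.mp h3)
  have hpc : Nat.Coprime p (cS (Fintype.card F) n) := by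
    rw [hF]; exact Cfsg.Agent.Helper23.Spec4.coprime_cS hp ha (by omega)
  have hBAD := fun w => hBAD_of (p := p) (F := F) hn hr hrq hrn w
  have hS := Cfsg.Agent.Helper33.Spec4.singer (F := F) hn
  have hR : ∃ ρ : ProjectiveSpecialLinearGroup (Fin n) F, orderOf ρ = r := by
    obtain ⟨e, he, he0, he1⟩ := Cfsg.Agent.Helper81.Spec4.exists_idempotent (F := F) hn
    obtain ⟨d, -, hd⟩ := Cfsg.Agent.Helper67.Spec4.good_of_idempotent hr hrq hrn
      (1 : SpecialLinearGroup (Fin n) F) e he he0 he1 (by simp)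
    exact ⟨d, hd⟩
  refine ⟨Cfsg.Agent.Helper22.Spec4.range_eq_three hr fun x y z h =>
    Cfsg.Agent.Helper55.Spec4.part1_core hp hr hpr hpc hBAD hS hR x y z h, ?_⟩
  intro hnp
  refine Cfsg.Agent.Helper22.Spec4.range_eq_two hr fun x y h =>
    Cfsg.Agent.Helper33.Spec4.part2_core hp hr hpr hpc hBAD hS hR ?_ x y h
  intro j hj ⟨w, hw⟩
  have h1 : p ^ (j - 1) < n := Cfsg.Agent.Helper48.Spec4.p_order_bound hj w hw
  have h2 : p ^ (j - 1) < n - 1 := by
    have : p ^ (j - 1) ≠ n - 1 := fun h => hnp ⟨j - 1, h.symm⟩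
    omega
  obtain ⟨u, e, he, he0, he1, hc, hu⟩ := Cfsg.Agent.Helper23.Spec4.exists_unipotent (F := F) hj h2
  exact ⟨_, hu, Cfsg.Agent.Helper67.Spec4.good_of_idempotent hr hrq hrn u e he he0 he1 hc⟩

end Cfsg.Agent.Helper86.Spec4Main
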