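import Mathlib
import Cfsg.Prelude.Def_Classical
import Cfsg.Agent.Helper86.Spec4.DefsU
import Cfsg.Agent.Helper45.GUBasic
import Cfsg.Agent.Helper22.Spec4A3
import Cfsg.Agent.Helper22.Spec4A4
import Cfsg.Agent.Helper55.Spec4A1
import Cfsg.Agent.Helper33.Spec4A2
import Cfsg.Agent.Helper20.Spec4UN1
import Cfsg.Agent.Helper20.Spec4UX4
import Cfsg.Agent.Helper24.Spec4UR2
import Cfsg.Agent.Helper29.Spec4UG1
import Cfsg.Agent.Helper29.Spec4UR4
import Cfsg.Agent.Helper29.Spec4UV7a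
import Cfsg.Agent.Helper31.Spec4UN2
import Cfsg.Agent.Helper31.Spec4UR1
import Cfsg.Agent.Helper31.Spec4UR3
import Cfsg.Agent.Helper33.Spec4UV5e
import Cfsg.Agent.Helper33.Spec4UV5o
import Cfsg.Agent.Helper41.Spec4UP2
import Cfsg.Agent.Helper41.Spec4UP3
import Cfsg.Agent.Helper42.Spec4UV1
import Cfsg.Agent.Helper42.Spec4UV6
import Cfsg.Agent.Helper42.Spec4UV7
import Cfsg.Agent.Helper42.Spec4UVB
import Cfsg.Agent.Helper52.Spec4UV2a
import Cfsg.Agent.Helper52.Spec4UV4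
import Cfsg.Agent.Helper55.Spec4UP4
import Cfsg.Agent.Helper55.Spec4UX2
import Cfsg.Agent.Helper66.Spec4UC0
import Cfsg.Agent.Helper66.Spec4UP1
import Cfsg.Agent.Helper66.Spec4UP5
import Cfsg.Agent.Helper66.Spec4UV00
import Cfsg.Agent.Helper66.Spec4UV2
import Cfsg.Agent.Helper66.Spec4UV3B2
import Cfsg.Agent.Helper66.Spec4UX3
import Cfsg.Agent.Helper70.Spec4UV0
import Cfsg.Agent.Helper70.Spec4UV8
import Cfsg.Agent.Helper88.Spec4UV3A
import Cfsg.Agent.Helper88.Spec4UV3B1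
import Cfsg.Agent.Helper97.Spec4UV2b
import Cfsg.Agent.Helper97.Spec4UX1

set_option autoImplicit false

/-!
# S2511: assembly

`PSU_n(q)^3 × (ℤ/r)^m` has the spectrum of `PSU_n(q)^3` for a prime `r ∣ q + 1`, `r ∤ n`, and two factors
suffice when `n - 1` is not a power of `p`.  Architecture (helper86), the unitary twin of S2510: an element of
`SU_n(q)` commuting with a nontrivial self-adjoint idempotent commutes with a non-central element of order `r`;
otherwise its `p'`-part has minimal polynomial `f` or `f f†` and lies in the Coxeter torus.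
Pieces by helper20, helper24, helper29, helper31, helper33, helper41, helper42, helper52, helper55, helper66,
helper70, helper88, helper97 (and the abstract pieces of S2510 by helper22, helper33, helper55).
-/

namespace Cfsg.Agent.Helper86.Spec4MainU

open Matrix Polynomial Cfsg.Agent.Helper86.Spec4

variable {F : Type*} [Field F] [Fintype F] {q n : ℕ}

/-! ## Assembly -/

theorem pow_NU_eq_one (hF : Fintype.card F = q ^ 2) (bar : F →+* F)
    (hbar : ∀ x, bar x = x ^ q) (hq : 2 ≤ q) (hn : 1 ≤ n) (x s : Matrix (Fin n) (Fin n) F)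
    (hx : dag bar x * x = 1) (hdx : x.det = 1) (j m : ℕ) (hs : s = x ^ j) (hm : (m : F) ≠ 0)
    (hsm : s ^ m = 1)
    (hind : ∀ e : Matrix (Fin n) (Fin n) F, e * e = e → dag bar e = e → e * x = x * e →
      e = 0 ∨ e = 1) :
    s ^ (NU q n / (q + 1)) = 1 := by
  have hbar2 := Cfsg.Agent.Helper66.Spec4U.bar_bar hF bar hbar
  have hsu : dag bar s * s = 1 := by
    rw [hs, dag_pow, ← (Commute.mul_pow ?_ j), hx, one_pow]
    have h2 : x * dag bar x = 1 := mul_eq_one_comm.mp hx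
    exact (hx.trans h2.symm : dag bar x * x = x * dag bar x)
  have hdet : s.det = 1 := by rw [hs, Matrix.det_pow, hdx, one_pow]
  have H := fun h hh hd => Cfsg.Agent.Helper97.Spec4U.dvd_minpoly_of_dvd_charpoly s h hh hd
  rcases Cfsg.Agent.Helper66.Spec4U.minpoly_of_indec_U bar hbar2 hn x s hx j m hs hm hsm hind
      (fun P H h1 h2 h3 h4 h5 h6 => Cfsg.Agent.Helper52.Spec4U.exists_sa_idempotent bar hbar2 s hsu P H h1 h2 h3 h4 h5 h6)
      (fun μ h1 h2 h3 h4 h5 => Cfsg.Agent.Helper97.Spec4U.poly_dichotomy bar hbar2 μ h1 h2 h3 h4 h5)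
      with hirr | ⟨f, hfm, hf, hf0, hcop, hassoc⟩
  · haveI : Fact (Irreducible (minpoly F s)) := ⟨hirr⟩
    have hint : IsIntegral F s := Algebra.IsIntegral.isIntegral s
    haveI : Module.Finite F (AdjoinRoot (minpoly F s)) := (minpoly.monic hint).finite_adjoinRoot
    haveI : Finite (AdjoinRoot (minpoly F s)) := Module.finite_of_finite F
    refine Cfsg.Agent.Helper88.Spec4U.pow_NU_eq_one_A hF bar hbar hn s hsu hdet hirr (Cfsg.Agent.Helper55.Spec4U.charpoly_eq_pow s hirr H)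
      (Cfsg.Agent.Helper31.Spec4U.root_pow_of_unitary hF bar hbar hn s hsu fun τ h1 h2 => Cfsg.Agent.Helper29.Spec4U.tau_eq_pow hF τ h1 h2)
      (Cfsg.Agent.Helper20.Spec4U.root_pow_norm _ (minpoly.monic hint)) ?_
    intro d k ξ hd hk h1 h2
    exact Cfsg.Agent.Helper31.Spec4U.arith_A q d k hq hd hk ξ h1 h2
  · haveI : Fact (Irreducible f) := ⟨hf⟩
    have hirr' := Cfsg.Agent.Helper55.Spec4U.pstar_irreducible bar hbar2 f hf hf0
    have HD := Cfsg.Agent.Helper88.Spec4U.det_caseB bar hbar2 hn s f hfm hf hf0 hcop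
      (Cfsg.Agent.Helper66.Spec4U.charpoly_assoc_pow_mul s f (pstar bar f) hf hirr' hassoc H)
      (Cfsg.Agent.Helper20.Spec4U.pstar_charpoly bar hbar2 s hsu) (Cfsg.Agent.Helper66.Spec4U.pstar_mul bar) (Cfsg.Agent.Helper41.Spec4U.pstar_pstar bar hbar2 f hf0)
      (Cfsg.Agent.Helper41.Spec4U.pstar_coeffs bar f hf0) hirr'
    refine Cfsg.Agent.Helper66.Spec4U.pow_NU_eq_one_B hF bar hbar hn s hdet f hfm hf0 hcop hassoc HD (Cfsg.Agent.Helper20.Spec4U.root_pow_norm f hfm) ?_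
      (Cfsg.Agent.Helper66.Spec4U.pstar_mul bar) (Cfsg.Agent.Helper66.Spec4U.pstar_X_pow_sub_one bar)
    intro d a ξ hd ha h1 h2
    exact Cfsg.Agent.Helper24.Spec4U.arith_B q d a hq hd ha ξ h1 h2

theorem hBAD_of_U {p r : ℕ} [Fact p.Prime] [CharP F p] (hF : Fintype.card F = q ^ 2)
    (bar : F →+* F) (hbar : ∀ x, bar x = x ^ q) (hq : 2 ≤ q) (hn : 3 ≤ n) (hr : r.Prime)
    (hrq : r ∣ q + 1) (hrn : ¬ r ∣ n) (w : Cfsg.PSU n F q) :
    Good r w ∨ ∃ t k, orderOf w = p ^ t * k ∧ k ∣ cU q n := by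
  obtain ⟨x, rfl⟩ := QuotientGroup.mk_surjective w
  have hx : dag bar x.1.1 * x.1.1 = 1 := dag_mul_self_of_mem bar hbar x.1 x.2
  by_cases hind : ∀ e : Matrix (Fin n) (Fin n) F, e * e = e → dag bar e = e →
      e * x.1.1 = x.1.1 * e → e = 0 ∨ e = 1
  · right
    refine Cfsg.Agent.Helper42.Spec4U.bad_dvd_U (p := p) hF hn x ?_
    intro s j m hs hm hsm
    have h1 := pow_NU_eq_one hF bar hbar hq (by omega) x.1.1 s hx x.1.2 j m hs hm hsm hind
    rw [Cfsg.Agent.Helper31.Spec4U.NU_div_eq q n hq (by omega), pow_mul] at h1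
    have hcomm : s ^ cU q n = x.1.1 ^ (j * cU q n) := by rw [hs, pow_mul]
    exact Cfsg.Agent.Helper52.Spec4U.scalar_of_pow_U hF bar hbar (by omega) x.1.1 (s ^ cU q n) hx (j * cU q n) hcomm
      (Nat.gcd n (q + 1)) (Nat.gcd_dvd_right _ _) h1 hind
  · left
    push_neg at hind
    obtain ⟨e, he, hes, hc, he0, he1⟩ := hind
    exact Cfsg.Agent.Helper42.Spec4U.good_of_idempotent_U hF bar hbar hn hr hrq hrn x e he hes he0 he1 hc

theorem main (p a n q r m : ℕ) (hp : p.Prime) (ha : 1 ≤ a) (hq : q = p ^ a)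
    (hF : Fintype.card F = q ^ 2) (hn : 3 ≤ n) (hr : r.Prime) (hrq : r ∣ q + 1) (hrn : ¬ r ∣ n) :
    Set.range (orderOf : Cfsg.PSU n F q × Cfsg.PSU n F q × Cfsg.PSU n F q × Multiplicative (Fin m → ZMod r) → ℕ) = Set.range (orderOf : Cfsg.PSU n F q × Cfsg.PSU n F q × Cfsg.PSU n F q → ℕ) ∧
    ((¬ ∃ j : ℕ, n - 1 = p ^ j) →
      Set.range (orderOf : Cfsg.PSU n F q × Cfsg.PSU n F q × Multiplicative (Fin m → ZMod r) → ℕ) = Set.range (orderOf : Cfsg.PSU n F q × Cfsg.PSU n F q → ℕ)) := by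
  haveI : Fact p.Prime := ⟨hp⟩
  haveI : CharP F p := Cfsg.Agent.Helper66.Spec4U.charP_of_card_sq hp ha (by rw [hF, hq])
  haveI : Finite (Cfsg.PSU n F q) := inferInstance
  obtain ⟨bar, hbar⟩ := Cfsg.Agent.Helper45.GU.exists_bar hF
  have hq2 : 2 ≤ q := by
    rw [hq]
    calc 2 ≤ p := hp.two_le
      _ = p ^ 1 := (pow_one p).symm
      _ ≤ p ^ a := Nat.pow_le_pow_right hp.pos ha
  have hpr : p ≠ r := by
    rintro rfl
    rw [hq] at hrq
    have h1 : p ∣ p ^ a := dvd_pow_self p (by omega)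
    have h3 : p ∣ 1 := (Nat.dvd_add_right h1).mp hrq
    exact hp.one_lt.ne' (Nat.dvd_one.mp h3)
  have hpc : Nat.Coprime p (cU q n) := by
    rw [hq]; exact Cfsg.Agent.Helper29.Spec4U.coprime_cU hp ha (by omega)
  have hBAD := fun w => hBAD_of_U (p := p) hF bar hbar hq2 hn hr hrq hrn w
  have hS : ∃ w : Cfsg.PSU n F q, orderOf w = cU q n := by
    rcases Nat.even_or_odd n with he | ho
    · obtain ⟨m', rfl⟩ := he
      exact Cfsg.Agent.Helper33.Spec4U.singer_U_even hF m' (by omega)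
    · exact Cfsg.Agent.Helper33.Spec4U.singer_U_odd hF hn ho
  have hR : ∃ ρ : Cfsg.PSU n F q, orderOf ρ = r := by
    obtain ⟨e, he, hes, he0, he1⟩ := Cfsg.Agent.Helper70.Spec4U.exists_idempotent_U (F := F) (n := n) bar (by omega)
    obtain ⟨d, -, hd⟩ := Cfsg.Agent.Helper42.Spec4U.good_of_idempotent_U hF bar hbar hn hr hrq hrn
      (1 : Cfsg.SU n F q) e he hes he0 he1 (by simp)
    exact ⟨d, hd⟩
  refine ⟨Cfsg.Agent.Helper22.Spec4.range_eq_three hr fun x y z h =>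
    Cfsg.Agent.Helper55.Spec4.part1_core hp hr hpr hpc hBAD hS hR x y z h, ?_⟩
  intro hnp
  refine Cfsg.Agent.Helper22.Spec4.range_eq_two hr fun x y h =>
    Cfsg.Agent.Helper33.Spec4.part2_core hp hr hpr hpc hBAD hS hR ?_ x y h
  intro j hj ⟨w, hw⟩
  have h1 : p ^ (j - 1) < n := Cfsg.Agent.Helper42.Spec4U.p_order_bound_U hF hn hj w hw
  have h2 : p ^ (j - 1) < n - 1 := by
    have : p ^ (j - 1) ≠ n - 1 := fun h => hnp ⟨j - 1, h.symm⟩
    omega
  obtain ⟨u, e, he, hes, he0, he1, hc, hu⟩ := Cfsg.Agent.Helper42.Spec4U.exists_unipotent_U (F := F) hF bar hbar hn hj h2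
    (Cfsg.Agent.Helper29.Spec4U.exists_regular_unipotent_SU hF (n - 1) (by omega))
  exact ⟨_, hu, Cfsg.Agent.Helper42.Spec4U.good_of_idempotent_U hF bar hbar hn hr hrq hrn u e he hes he0 he1 hc⟩

end Cfsg.Agent.Helper86.Spec4MainU
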